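import Groth.Agent.TorusAb27.Basic
import Groth.Agent.SGA3cLib.SubgroupClosed
import Groth.Agent.AlgGrpLib.PointsDense
import Groth.Agent.AbSchLib.SmoothReduced
import Groth.Agent.NeronLib.AffineConst
import Groth.Prelude.Def_AlgGrp

/-!
# Morphisms from affine space to extensions of abelian varieties by tori
-/

set_option autoImplicit false
set_option backward.isDefEq.respectTransparency.types false
set_option maxHeartbeats 1000000

universe u

open CategoryTheory CategoryTheory.Limits MonoidalCategory CartesianMonoidalCategory MonObj AlgebraicGeometry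
open Groth.Agent.SGA3cLib Groth.Agent.AlgGrpLib

namespace Groth.Agent.AffineLargeGrp27

variable {Ω : Type u} [Field Ω]

/-- The affine line over a field. -/
noncomputable abbrev line (Ω : Type u) [Field Ω] : Over (Spec (CommRingCat.of Ω)) :=
  Over.mk (NeronLib.specC Ω PUnit.{u + 1})

/-- The point of the affine line with coordinate `t`. -/
noncomputable def linePt (t : Ω) : 𝟙_ (Over (Spec (CommRingCat.of Ω))) ⟶ line Ω :=
  Over.homMk (Spec.map (CommRingCat.ofHom (MvPolynomial.eval₂Hom (RingHom.id Ω) fun _ : PUnit.{u + 1} => t))) (by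
    show _ ≫ Spec.map _ = 𝟙 _
    rw [← Spec.map_comp, ← Spec.map_id]
    congr 1
    exact CommRingCat.hom_ext (RingHom.ext fun a => MvPolynomial.eval₂_C _ _ a))

/-- A pointed morphism from the affine line to a torus is trivial. -/
theorem eq_one_of_line_torus {T : Over (Spec (CommRingCat.of Ω))} [GrpObj T] (hT : Red.IsTorus T)
    (f : line Ω ⟶ T) (h0 : linePt 0 ≫ f = 1) : f = 1 := by
  let G := Red.Ga (Spec (CommRingCat.of Ω))
  let P := MvPolynomial PUnit.{u + 1} Ω
  obtain ⟨h, hh⟩ := SGA3cLib.exists_gaFn (X := line Ω) (S := Spec (CommRingCat.of Ω))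
    ((Scheme.ΓSpecIso (CommRingCat.of P)).inv (MvPolynomial.X PUnit.unit))
  let σ : Ω →+* Γ(G.left, ⊤) := G.hom.appTop.hom.comp (Scheme.ΓSpecIso (CommRingCat.of Ω)).inv.hom
  let ψ : P →+* Γ(G.left, ⊤) := MvPolynomial.eval₂Hom σ (fun _ => Red.gaFn (𝟙 G))
  let k : G ⟶ line Ω := Over.homMk (G.left.toSpecΓ ≫ Spec.map (CommRingCat.ofHom ψ)) (by
    show (G.left.toSpecΓ ≫ Spec.map (CommRingCat.ofHom ψ)) ≫ Spec.map _ = G.hom
    rw [Category.assoc, ← Spec.map_comp, ← CommRingCat.ofHom_comp,
      show ψ.comp MvPolynomial.C = σ from RingHom.ext fun a => MvPolynomial.eval₂_C _ _ a]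
    show _ ≫ Spec.map ((Scheme.ΓSpecIso (CommRingCat.of Ω)).inv ≫ G.hom.appTop) = _
    rw [Spec.map_comp, ← Scheme.toSpecΓ_naturality_assoc]
    erw [← SpecMap_ΓSpecIso_hom, ← Spec.map_comp, Iso.inv_hom_id, Spec.map_id, Category.comp_id])
  have hψ : (CommRingCat.ofHom ψ) ≫ h.left.appTop = (Scheme.ΓSpecIso (CommRingCat.of P)).inv := by
    refine CommRingCat.hom_ext (MvPolynomial.ringHom_ext (fun a => ?_) fun i => ?_)
    · show h.left.appTop (ψ (MvPolynomial.C a)) = _
      rw [show ψ (MvPolynomial.C a) = σ a from MvPolynomial.eval₂_C _ _ a]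
      show h.left.appTop (G.hom.appTop ((Scheme.ΓSpecIso (CommRingCat.of Ω)).inv a)) = _
      rw [← CommRingCat.comp_apply, ← Scheme.Hom.comp_appTop, Over.w h]
      show (Spec.map (CommRingCat.ofHom (MvPolynomial.C : Ω →+* P))).appTop _ = _
      rw [← CommRingCat.comp_apply, ← Scheme.ΓSpecIso_inv_naturality, CommRingCat.comp_apply]
      rfl
    · show h.left.appTop (ψ (MvPolynomial.X i)) = _
      rw [show ψ (MvPolynomial.X i) = Red.gaFn (𝟙 G) from MvPolynomial.eval₂_X _ _ i]
      have h1 : Red.gaFn (h ≫ 𝟙 G) = h.left.appTop (Red.gaFn (𝟙 G)) := by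
        rw [SGA3cLib.gaFn_eq_fn, SGA3cLib.fn_comp, ← SGA3cLib.gaFn_eq_fn]
      rw [← h1, Category.comp_id, hh]
  have hhk : h ≫ k = 𝟙 (line Ω) := Over.OverMorphism.ext (by
    show h.left ≫ G.left.toSpecΓ ≫ Spec.map (CommRingCat.ofHom ψ) = 𝟙 _
    rw [Scheme.toSpecΓ_naturality_assoc, ← Spec.map_comp]
    erw [hψ]
    erw [← SpecMap_ΓSpecIso_hom, ← Spec.map_comp, Iso.inv_hom_id, Spec.map_id]
    rfl)
  rw [← Category.id_comp f, ← hhk, Category.assoc]
  rw [TorusToProper.eq_one_of_Ga hT (k ≫ f) (linePt 0 ≫ h) (by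
    rw [Category.assoc, reassoc_of% hhk, h0, Hom.one_def, toUnit_unique (toUnit (𝟙_ _)) (𝟙 _), Category.id_comp]),
    MonObj.comp_one]

/-- A pointed morphism from the affine line to a proper group scheme is trivial. -/
theorem eq_one_of_line_proper {A : Over (Spec (CommRingCat.of Ω))} [GrpObj A] [IsProper A.hom]
    (f : line Ω ⟶ A) (h0 : linePt 0 ≫ f = 1) : f = 1 := by
  haveI : GrpObj (Over.mk A.hom) := inferInstanceAs (GrpObj A)
  obtain ⟨a, -, ha⟩ := NeronLib.eq_const_of_affine Ω PUnit.{u + 1} A.hom f.left (Over.w f)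
  have h1 := congrArg (fun z => Over.Hom.left z) h0
  simp only [Over.comp_left] at h1
  have h2 : a = (1 : 𝟙_ (Over (Spec (CommRingCat.of Ω))) ⟶ A).left := by
    refine Eq.trans ?_ h1
    rw [ha, ← Category.assoc]
    exact ((Category.id_comp a).symm.trans (congrArg (· ≫ a) (Over.w (linePt (0 : Ω))).symm))
  apply Over.OverMorphism.ext
  rw [ha, h2, ← MonObj.comp_one (toUnit (line Ω)) (M := A), Over.comp_left]
  exact congrArg (· ≫ _) ((Category.comp_id _).symm.trans (Over.w (toUnit (line Ω)))).symm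

variable {k : Type u} [Field k] {G G₀ T B : Over (Spec (CommRingCat.of k))} [GrpObj G] [GrpObj G₀] [GrpObj T]
  [GrpObj B] (e : G₀ ⟶ G) [IsMonHom e] [IsOpenImmersion e.left] (i : T ⟶ G₀) [IsMonHom i] (hT : Red.IsTorus T)
  [IsProper B.hom] (q : G₀ ⟶ B) [IsMonHom q] (hker : AlgGrp.IsKernel i q)
include e hT hker

/-- A pointed morphism from an affine line to such a group is trivial. -/
theorem eq_one_of_line (g : Spec (CommRingCat.of Ω) ⟶ Spec (CommRingCat.of k))
    (w : (Over.map g).obj (line Ω) ⟶ G) (h0 : (Over.map g).map (linePt 0) ≫ w = 1) : w = 1 := by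
  have hrange : ∀ z, w.left.base z ∈ Set.range e.left.base := by
    have hc : IsClopen (Set.range e.left.base) :=
      ⟨isClosed_range_of_isImmersion e, e.left.isOpenEmbedding.isOpen_range⟩
    haveI : IrreducibleSpace ↥(line Ω).left :=
      inferInstanceAs (IrreducibleSpace (PrimeSpectrum (MvPolynomial PUnit.{u + 1} Ω)))
    haveI : PreconnectedSpace ↥((Over.map g).obj (line Ω)).left :=
      inferInstanceAs (PreconnectedSpace ↥(line Ω).left)
    have hpre : IsClopen (w.left.base ⁻¹' Set.range e.left.base) := hc.preimage w.left.continuous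
    rcases isClopen_iff.1 hpre with h | h
    · refine absurd h (Set.nonempty_iff_ne_empty.1 ⟨(linePt (0 : Ω)).left.base (IsLocalRing.closedPoint Ω), ?_⟩)
      have h1 := congrArg (fun z : (Over.map g).obj (𝟙_ _) ⟶ G => z.left.base (IsLocalRing.closedPoint Ω)) h0
      simp only [Over.comp_left, Over.map_map_left, Scheme.Hom.comp_apply] at h1
      refine Set.mem_preimage.2 ?_
      rw [h1, ← MonObj.one_comp e, Over.comp_left, Scheme.Hom.comp_apply]
      exact ⟨_, rfl⟩
    · exact fun z => (h.symm.le (Set.mem_univ z) :)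
  let l₀ : (Over.map g).obj (line Ω) ⟶ G₀ := Over.homMk (IsOpenImmersion.lift e.left w.left (by
    rintro _ ⟨z, rfl⟩; exact hrange z)) (by
    rw [← Over.w e, ← Category.assoc, IsOpenImmersion.lift_fac]
    exact Over.w w)
  have hl₀ : l₀ ≫ e = w := Over.OverMorphism.ext (IsOpenImmersion.lift_fac _ _ _)
  haveI : Mono e := (Over.forget _).mono_of_mono_map (inferInstanceAs (Mono e.left))
  have hl₀0 : (Over.map g).map (linePt 0) ≫ l₀ = 1 := by
    rw [← cancel_mono e, Category.assoc, hl₀, h0, MonObj.one_comp]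
  have hone : ∀ (H : Over (Spec (CommRingCat.of k))) [GrpObj H] (X' : Over (Spec (CommRingCat.of Ω))),
      BCPoints.pt g H X' 1 = 1 := fun H _ X' =>
    map_one (MonoidHom.mk' (BCPoints.pt g H X') (BCPoints.pt_mul g))
  haveI : IsProper (Red.bc g B).hom := MorphismProperty.pullback_snd (P := @IsProper) B.hom g inferInstance
  have hq : l₀ ≫ q = 1 := by
    apply (BCPoints.pt g B _).injective
    rw [hone]
    refine eq_one_of_line_proper _ ?_
    rw [← BCPoints.pt_map_comp, reassoc_of% hl₀0, MonObj.one_comp, hone]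
  have hk : l₀ ≫ q = toUnit _ ≫ η[B] := by rw [hq, Hom.one_def]
  let l := hker.lift l₀ (toUnit _) hk
  have hl : l ≫ i = l₀ := hker.lift_fst _ _ _
  haveI : Mono η[B] := (isTerminalTensorUnit.isSplitMono_from η[B]).mono
  haveI : Mono i := ⟨fun a b hab => hker.hom_ext hab (toUnit_unique _ _)⟩
  have hl0 : (Over.map g).map (linePt 0) ≫ l = 1 := by
    rw [← cancel_mono i, Category.assoc, hl, hl₀0, MonObj.one_comp]
  have hl1 : l = 1 := by
    apply (BCPoints.pt g T _).injective
    rw [hone]
    refine eq_one_of_line_torus (TorusAb27.isTorus_bc g T hT) _ ?_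
    rw [← BCPoints.pt_map_comp, hl0, hone]
  rw [← hl₀, ← hl, hl1, MonObj.one_comp, MonObj.one_comp]

/-- A morphism from `X × 𝔸ⁿ` to such a group depends only on `X`. -/
theorem eq_fst_comp [IsSeparated G.hom] (X : Over (Spec (CommRingCat.of k))) [IsReduced X.left]
    [LocallyOfFiniteType X.hom] (n : ℕ)
    (φ : X ⊗ Over.mk (Spec.map (CommRingCat.ofHom (algebraMap k (MvPolynomial (Fin n) k)))) ⟶ G) :
    ∃ ψ : X ⟶ G,
      φ = fst X (Over.mk (Spec.map (CommRingCat.ofHom (algebraMap k (MvPolynomial (Fin n) k))))) ≫ ψ := by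
  let V : Over (Spec (CommRingCat.of k)) :=
    Over.mk (Spec.map (CommRingCat.ofHom (algebraMap k (MvPolynomial (Fin n) k))))
  let o : 𝟙_ (Over (Spec (CommRingCat.of k))) ⟶ V :=
    Over.homMk (Spec.map (CommRingCat.ofHom (MvPolynomial.eval₂Hom (RingHom.id k) fun _ : Fin n => (0 : k)))) (by
      show _ ≫ Spec.map _ = 𝟙 _
      rw [← Spec.map_comp, ← Spec.map_id]
      congr 1
      exact CommRingCat.hom_ext (RingHom.ext fun a => MvPolynomial.eval₂_C _ _ a))
  let ψ : X ⟶ G := lift (𝟙 X) (toUnit X ≫ o) ≫ φ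
  refine ⟨ψ, mul_inv_eq_one.1 ?_⟩
  let D := φ * (fst X V ≫ ψ)⁻¹
  change D = 1
  have hD0 : lift (𝟙 X) (toUnit X ≫ o) ≫ D = 1 := by
    simp only [D, MonObj.comp_mul, GrpObj.comp_inv, ← Category.assoc, lift_fst, Category.id_comp, ψ, mul_inv_cancel]
  let K := AlgebraicClosure k
  let g : Spec (CommRingCat.of K) ⟶ Spec (CommRingCat.of k) := Spec.map (CommRingCat.ofHom (algebraMap k K))
  haveI : IsClosedImmersion η[G].left := SGA3xLib.isClosedImmersion_of_section G.hom _ (Over.w η[G])
  haveI : Algebra.Smooth k (MvPolynomial (Fin n) k) := ⟨inferInstance, inferInstance⟩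
  haveI : Smooth V.hom := by
    show Smooth (Spec.map _)
    rw [HasRingHomProperty.Spec_iff (P := @Smooth)]
    exact RingHom.smooth_algebraMap.2 inferInstance
  haveI : Smooth (fst X V).left := inferInstanceAs (Smooth (pullback.fst X.hom V.hom))
  haveI : IsReduced (X ⊗ V).left := AbSchLib.isReduced_of_smooth (fst X V).left
  haveI : LocallyOfFiniteType (X ⊗ V).hom :=
    inferInstanceAs (LocallyOfFiniteType (pullback.fst X.hom V.hom ≫ X.hom))
  obtain ⟨l, hl⟩ := PointsDense.exists_factor_of_points_algClosed k K D η[G] (fun p => by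
    refine ⟨toUnit _, ?_⟩
    obtain ⟨χ, hχ⟩ := Spec.map_surjective (p ≫ snd X V).left
    have hχC : ∀ a : k, χ.hom (MvPolynomial.C a) = algebraMap k K a := fun a => by
      have h := Over.w (p ≫ snd X V)
      rw [← hχ] at h
      change Spec.map χ ≫ Spec.map _ = Spec.map _ at h
      rw [← Spec.map_comp] at h
      exact congrArg (fun z => z.hom a) (Spec.map_injective h)
    let W := (Over.map g).obj (line K)
    let c : MvPolynomial (Fin n) k →+* MvPolynomial PUnit.{u + 1} K :=
      MvPolynomial.eval₂Hom (MvPolynomial.C.comp (algebraMap k K))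
        fun j => MvPolynomial.X PUnit.unit * MvPolynomial.C (χ.hom (MvPolynomial.X j))
    let mV : W ⟶ V := Over.homMk (Spec.map (CommRingCat.ofHom c)) (by
      show Spec.map _ ≫ Spec.map _ = Spec.map _ ≫ Spec.map _
      rw [← Spec.map_comp, ← Spec.map_comp]
      congr 1
      exact CommRingCat.hom_ext (RingHom.ext fun a => MvPolynomial.eval₂_C _ _ a))
    let κ : ∀ t : K, PointsDense.spK k K ⟶ W := fun t =>
      Over.homMk (linePt t).left ((congrArg (· ≫ g) (Over.w (linePt t))).trans (Category.id_comp _) |> fun h =>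
        (Category.assoc _ _ _).symm.trans h)
    let mX : W ⟶ X := Over.homMk (NeronLib.specC K PUnit.{u + 1} ≫ (p ≫ fst X V).left) (by
      rw [Category.assoc, Over.w (p ≫ fst X V)]
      rfl)
    have hX : ∀ t, κ t ≫ mX = p ≫ fst X V := fun t => Over.OverMorphism.ext (by
      show (linePt t).left ≫ NeronLib.specC K PUnit.{u + 1} ≫ _ = _
      rw [← Category.assoc, show (linePt t).left ≫ NeronLib.specC K PUnit.{u + 1} = 𝟙 _ from Over.w (linePt t),
        Category.id_comp])
    have hV : ∀ (t : K) (y : PointsDense.spK k K ⟶ V) (r : CommRingCat.of (MvPolynomial (Fin n) k) ⟶ CommRingCat.of K),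
        y.left = Spec.map r → (∀ a, r.hom (MvPolynomial.C a) = algebraMap k K a) →
        (∀ j, r.hom (MvPolynomial.X j) = t * χ.hom (MvPolynomial.X j)) → κ t ≫ mV = y := by
      intro t y r hy hC hX'
      refine Over.OverMorphism.ext ?_
      show Spec.map _ ≫ Spec.map _ = _
      rw [hy, ← Spec.map_comp]
      congr 1
      refine CommRingCat.hom_ext (MvPolynomial.ringHom_ext (fun a => ?_) fun j => ?_)
      · rw [hC]
        simp [c]
      · rw [hX']
        simp [c]
    have h1 : κ 1 ≫ lift mX mV = p := by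
      apply hom_ext
      · rw [Category.assoc, lift_fst, hX]
      · rw [Category.assoc, lift_snd, hV 1 (p ≫ snd X V) χ hχ.symm hχC (fun j => (_root_.one_mul _).symm)]
    have h00 : κ 0 ≫ lift mX mV = (p ≫ fst X V) ≫ lift (𝟙 X) (toUnit X ≫ o) := by
      apply hom_ext
      · rw [Category.assoc, lift_fst, hX, Category.assoc, lift_fst, Category.comp_id]
      · rw [Category.assoc, lift_snd, Category.assoc, lift_snd, ← Category.assoc,
          comp_toUnit (p ≫ fst X V)]
        refine hV 0 _ (CommRingCat.ofHom ((algebraMap k K).comp (MvPolynomial.eval₂Hom (RingHom.id k) fun _ => 0)))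
          ?_ (fun a => by simp) (fun j => by simp)
        rw [CommRingCat.ofHom_comp, Spec.map_comp, Over.comp_left]
        exact congrArg (· ≫ _) ((Category.comp_id _).symm.trans (Over.w (toUnit (PointsDense.spK k K))))
    have h0' : κ 0 ≫ lift mX mV ≫ D = 1 := by rw [← Category.assoc, h00, Category.assoc, hD0, MonObj.comp_one]
    let θ : (Over.map g).obj (𝟙_ (Over (Spec (CommRingCat.of K)))) ⟶ PointsDense.spK k K :=
      Over.homMk (𝟙 _) (by show 𝟙 _ ≫ g = 𝟙 _ ≫ g; rfl)
    have hw : (lift mX mV ≫ D) = 1 := eq_one_of_line e i hT q hker g _ (by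
      have e0 : (Over.map g).map (linePt (0 : K)) = θ ≫ κ 0 :=
        Over.OverMorphism.ext (Category.id_comp _).symm
      rw [e0, Category.assoc, h0', MonObj.comp_one])
    rw [← h1, Category.assoc, hw, MonObj.comp_one, Hom.one_def])
  rw [← hl, Hom.one_def, toUnit_unique l (toUnit _)]

end Groth.Agent.AffineLargeGrp27
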